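import Cfsg.Agent.Lib.Functor.NPC
import Cfsg.Agent.Lib.KInfinity.StrongFusion

/-!
# Normal `p`-complements and K-infinity subgroups
-/

namespace Cfsg.Agent.Lib.KInfinity

open Subgroup Cfsg

universe u

variable {p : ℕ} [Fact p.Prime] {G : Type u} [Group G] [Finite G]

/-- Strong fusion control in the stable sections is enough. -/
theorem hasNormalPComplement_of_stable_control (hp : p ≠ 2)
    {W : ∀ (Q : Type u) [Group Q], Subgroup Q} (hW : IsCharPFunctor.{u} p W) (S : Sylow p G)
    (hN : HasNormalPComplement p
      ↥(normalizer ((inducedFunctor W (S : Subgroup G) : Subgroup G) : Set G)))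
    (hctl : ∀ (K R : Subgroup G) [(R.subgroupOf K).Normal],
      (∀ (K' R' : Subgroup (↥K ⧸ R.subgroupOf K)) [(R'.subgroupOf K').Normal],
        IsNormalizerPStable p (↥K' ⧸ R'.subgroupOf K')) →
      ∀ T : Sylow p (↥K ⧸ R.subgroupOf K), ControlsStrongFusion p
        (inducedFunctor W (T : Subgroup (↥K ⧸ R.subgroupOf K)))) :
    HasNormalPComplement p G := by
  refine Functor.hasNormalPComplement_of_functor hW S hN fun K R _ hthin _ _ hgood hG T _ => ?_
  have hst : ∀ (K' R' : Subgroup (↥K ⧸ R.subgroupOf K)) [(R'.subgroupOf K').Normal],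
      IsNormalizerPStable p (↥K' ⧸ R'.subgroupOf K') := fun K' R' _ =>
    Functor.IsThin.isNormalizerPStable
      ((hthin.subgroup K').of_surjective (QuotientGroup.mk'_surjective (R'.subgroupOf K'))) hp
  refine hG (Functor.hasNormalPComplement_of_controlsStrongFusion (@hctl K R _ @hst T) ?_)
  have h := hgood T ()
  change HasNormalPComplement p (Functor.functorLoc p W (T : Subgroup (↥K ⧸ R.subgroupOf K))) at h
  rwa [Functor.functorLoc_eq W T.2] at h

/-- The centralizer in `S` of its lower K-infinity subgroup lies in it. -/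
theorem inf_centralizer_kInfLower_le (S : Sylow p G) :
    (S : Subgroup G) ⊓ centralizer
      ((inducedFunctor kInfLower (S : Subgroup G) : Subgroup G) : Set G) ≤
      inducedFunctor kInfLower (S : Subgroup G) := by
  rintro x ⟨hxS, hx⟩
  refine ⟨⟨x, hxS⟩, ?_, rfl⟩
  refine kSeqEven_le_kInfLower 0 (centralizer_sSup_le S.isPGroup' ⟨⊥, bot_mem_lower _⟩
    (fun B hB hmax => centralizer_le_of_maximal_lower S.isPGroup' hB hmax) ?_)
  intro y hy
  exact Subtype.ext (hx _ (mem_map_of_mem _ (kSeqEven_le_kInfLower 0 hy)))

theorem hasNormalPComplement_kInfLower (hp : p ≠ 2) (S : Sylow p G)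
    (h : HasNormalPComplement p
        ↥(normalizer ((inducedFunctor kInfLower (S : Subgroup G) : Subgroup G) : Set G)) ∨
      ∀ g ∈ normalizer ((inducedFunctor kInfLower (S : Subgroup G) : Subgroup G) : Set G),
        (orderOf g).Coprime p →
        g ∈ centralizer ((inducedFunctor kInfLower (S : Subgroup G) : Subgroup G) : Set G)) :
    HasNormalPComplement p G := by
  have hK := kInfLower_isCharPFunctor.{u} p
  have hN : HasNormalPComplement p
      ↥(normalizer ((inducedFunctor kInfLower (S : Subgroup G) : Subgroup G) : Set G)) := by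
    rcases h with h | h
    · exact h
    · exact Functor.hasNormalPComplement_normalizer_of_automizer S (Functor.inducedFunctor_le _)
        (le_normalizer.trans (Functor.normalizer_le_normalizer_functor
          (Functor.inducedFunctor_isConjugacyFunctor hK) S.isPGroup'))
        (inf_centralizer_kInfLower_le S) h
  exact hasNormalPComplement_of_stable_control hp hK S hN fun K R _ hst T =>
    (controlsStrongFusion_kInf hst T).1

end Cfsg.Agent.Lib.KInfinity
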